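import Mathlib

/-!
# Pascal-type bookkeeping for iterated splittings
-/

set_option autoImplicit false
set_option linter.unusedSectionVars false
set_option linter.unusedVariables false
set_option linter.unusedSimpArgs false
set_option linter.style.haveILetI false
set_option maxHeartbeats 400000

namespace Groth.Agent.Lib.Helper6.KosHom

universe u

variable {A : Type u} [CommRing A]

section Generic

/-- A product over `ℕ` splits off its zeroth factor. -/
def natCons (F : ℕ → Type u) [∀ j, AddCommGroup (F j)] [∀ j, Module A (F j)] :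
    ((j : ℕ) → F j) ≃ₗ[A] (F 0 × ((i : ℕ) → F (i + 1))) where
  toFun f := (f 0, fun i => f (i + 1))
  invFun p := fun j => Nat.casesOn (motive := F) j p.1 (fun i => p.2 i)
  map_add' _ _ := rfl
  map_smul' _ _ := rfl
  left_inv f := by funext j; cases j <;> rfl
  right_inv p := rfl

/-- A product of products. -/
def piProd {ι : Type} (F G : ι → Type u) [∀ j, AddCommGroup (F j)] [∀ j, Module A (F j)]
    [∀ j, AddCommGroup (G j)] [∀ j, Module A (G j)] :
    ((i : ι) → F i × G i) ≃ₗ[A] (((i : ι) → F i) × ((i : ι) → G i)) where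
  toFun f := (fun i => (f i).1, fun i => (f i).2)
  invFun p := fun i => (p.1 i, p.2 i)
  map_add' _ _ := rfl
  map_smul' _ _ := rfl
  left_inv f := rfl
  right_inv p := rfl

/-- Rearranging a triple product. -/
def rearr (X P Q : Type u) [AddCommGroup X] [Module A X] [AddCommGroup P] [Module A P]
    [AddCommGroup Q] [Module A Q] : (X × (P × Q)) ≃ₗ[A] ((X × Q) × P) where
  toFun t := ((t.1, t.2.2), t.2.1)
  invFun s := (s.1.1, (s.2, s.1.2))
  map_add' _ _ := rfl
  map_smul' _ _ := rfl
  left_inv t := rfl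
  right_inv s := rfl

/-- Dropping a trivial factor. -/
def prodTrivRight (X U : Type u) [AddCommGroup X] [Module A X] [AddCommGroup U] [Module A U]
    (hU : ∀ u : U, u = 0) : (X × U) ≃ₗ[A] X where
  toFun t := t.1
  invFun x := (x, 0)
  map_add' _ _ := rfl
  map_smul' _ _ := rfl
  left_inv t := Prod.ext rfl (hU t.2).symm
  right_inv x := rfl

/-- Splitting functions on `Fin n` when `n = a + b`. -/
noncomputable def finSplit (X : Type u) [AddCommGroup X] [Module A X] (n a b : ℕ) (h : n = a + b) :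
    (Fin n → X) ≃ₗ[A] ((Fin a → X) × (Fin b → X)) :=
  (LinearEquiv.funCongrLeft A X (finSumFinEquiv.trans (finCongr h.symm))).trans
    (LinearEquiv.sumArrowLequivProdArrow (Fin a) (Fin b) A X)

end Generic

section Pascal

/-- The `ℕ`-indexed model. -/
abbrev Qmod (r : ℕ) (G : ℕ → ModuleCat.{u} A) : Type u := (j : ℕ) → Fin (r.choose j) → G j

theorem nonempty_Q_succ (r : ℕ) (G : ℕ → ModuleCat.{u} A) :
    Nonempty (Qmod (r + 1) G ≃ₗ[A] (Qmod r G × Qmod r (fun j => G (j + 1)))) := by
  let e1 := natCons (A := A) (fun j => Fin ((r + 1).choose j) → G j)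
  let e2 : (Fin ((r + 1).choose 0) → G 0) ≃ₗ[A] (Fin (r.choose 0) → G 0) :=
    LinearEquiv.funCongrLeft A (G 0) (finCongr (by simp))
  let e3 : ∀ i : ℕ, (Fin ((r + 1).choose (i + 1)) → G (i + 1)) ≃ₗ[A]
      ((Fin (r.choose i) → G (i + 1)) × (Fin (r.choose (i + 1)) → G (i + 1))) :=
    fun i => finSplit (G (i + 1)) _ _ _ (Nat.choose_succ_succ r i)
  let e4 := LinearEquiv.piCongrRight e3
  let e5 := piProd (A := A) (fun i : ℕ => Fin (r.choose i) → G (i + 1))
    (fun i => Fin (r.choose (i + 1)) → G (i + 1))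
  let e6 := natCons (A := A) (fun j => Fin (r.choose j) → G j)
  let e7 : Qmod (r + 1) G ≃ₗ[A] ((Fin (r.choose 0) → G 0) ×
      (((i : ℕ) → Fin (r.choose i) → G (i + 1)) ×
        ((i : ℕ) → Fin (r.choose (i + 1)) → G (i + 1)))) :=
    e1.trans (LinearEquiv.prodCongr e2 (e4.trans e5))
  let e8 := rearr (A := A) (Fin (r.choose 0) → G 0) ((i : ℕ) → Fin (r.choose i) → G (i + 1))
    ((i : ℕ) → Fin (r.choose (i + 1)) → G (i + 1))
  exact ⟨e7.trans (e8.trans (LinearEquiv.prodCongr e6.symm (LinearEquiv.refl A _)))⟩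

/-- The recursive model. -/
noncomputable def Trec : ℕ → (ℕ → ModuleCat.{u} A) → ModuleCat.{u} A
  | 0, G => G 0
  | r + 1, G => ModuleCat.of A (Trec r G × Trec r (fun j => G (j + 1)))

theorem nonempty_Trec_zero (G : ℕ → ModuleCat.{u} A) : Nonempty (Trec 0 G ≃ₗ[A] Qmod 0 G) := by
  let e1 := natCons (A := A) (fun j => Fin (Nat.choose 0 j) → G j)
  have hU : ∀ u : ((i : ℕ) → Fin (Nat.choose 0 (i + 1)) → G (i + 1)), u = 0 := by
    intro u
    funext i x
    exact (finCongr (Nat.choose_zero_succ i) x).elim0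
  let e2 := prodTrivRight (A := A) (Fin (Nat.choose 0 0) → G 0)
    ((i : ℕ) → Fin (Nat.choose 0 (i + 1)) → G (i + 1)) hU
  let e3 : (Fin (Nat.choose 0 0) → G 0) ≃ₗ[A] G 0 :=
    (LinearEquiv.funCongrLeft A (G 0) (finCongr (Nat.choose_self 0).symm)).trans
      (LinearEquiv.funUnique (Fin 1) A (G 0))
  exact ⟨((e1.trans e2).trans e3).symm⟩

theorem nonempty_Trec_equiv_Q : ∀ (r : ℕ) (G : ℕ → ModuleCat.{u} A),
    Nonempty (Trec r G ≃ₗ[A] Qmod r G)
  | 0, G => nonempty_Trec_zero G
  | r + 1, G => by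
    obtain ⟨e1⟩ := nonempty_Trec_equiv_Q r G
    obtain ⟨e2⟩ := nonempty_Trec_equiv_Q r (fun j => G (j + 1))
    obtain ⟨e3⟩ := nonempty_Q_succ r G
    exact ⟨(LinearEquiv.prodCongr e1 e2).trans e3.symm⟩

theorem nonempty_Q_equiv_P (r : ℕ) (G : ℕ → ModuleCat.{u} A) :
    Nonempty (Qmod r G ≃ₗ[A] ((j : Fin (r + 1)) → Fin (r.choose j) → G j)) := by
  classical
  refine ⟨{ toFun := fun f j => f j.val
            invFun := fun g j => if h : j < r + 1 then g ⟨j, h⟩ else 0
            map_add' := fun _ _ => rfl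
            map_smul' := fun _ _ => rfl
            left_inv := ?_
            right_inv := ?_ }⟩
  · intro f
    funext j
    by_cases h : j < r + 1
    · simp only [dif_pos h]
    · simp only [dif_neg h]
      funext x
      have h0 : r.choose j = 0 := Nat.choose_eq_zero_of_lt (by omega)
      exact (finCongr h0 x).elim0
  · intro g
    funext j
    simp only [dif_pos j.2]

theorem nonempty_Trec_equiv_P (r : ℕ) (G : ℕ → ModuleCat.{u} A) :
    Nonempty (Trec r G ≃ₗ[A] ((j : Fin (r + 1)) → Fin (r.choose j) → G j)) := by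
  obtain ⟨e1⟩ := nonempty_Trec_equiv_Q r G
  obtain ⟨e2⟩ := nonempty_Q_equiv_P r G
  exact ⟨e1.trans e2⟩

end Pascal

end Groth.Agent.Lib.Helper6.KosHom
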