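import Mathlib

/-!
# Homology of the cone of a null-homotopic endomorphism
-/

set_option autoImplicit false
set_option linter.unusedSectionVars false
set_option linter.unusedVariables false
set_option linter.unusedSimpArgs false
set_option linter.style.haveILetI false
set_option maxHeartbeats 400000

namespace Groth.Agent.Lib.Helper6.KosHom

open CategoryTheory CategoryTheory.Limits CochainComplex Pretriangulated

universe u

variable {A : Type u} [CommRing A]

theorem nonempty_homology_cone_of_homotopy {K : CochainComplex (ModuleCat.{u} A) ℤ}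
    (φ : K ⟶ K) (h : Homotopy φ 0) (m : ℤ) :
    Nonempty ((mappingCone φ).homology m ≃ₗ[A] (K.homology m × K.homology (m + 1))) := by
  have hφ : (HomotopyCategory.quotient (ModuleCat.{u} A) (ComplexShape.up ℤ)).map φ = 0 := by
    rw [HomotopyCategory.eq_of_homotopy _ _ h, Functor.map_zero]
  have hT := HomotopyCategory.mappingCone_triangleh_distinguished φ
  have hrot := rot_of_distTriang _ hT
  have hzero : (mappingCone.triangleh φ).rotate.mor₃ = 0 := by
    have hm1 : (mappingCone.triangleh φ).mor₁ = 0 := hφ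
    show -((mappingCone.triangleh φ).mor₁⟦(1 : ℤ)⟧') = 0
    rw [hm1, Functor.map_zero, neg_zero]
  obtain ⟨e, -, -⟩ := exists_iso_binaryBiproduct_of_distTriang _ hrot hzero
  let Q := HomotopyCategory.quotient (ModuleCat.{u} A) (ComplexShape.up ℤ)
  let F := HomotopyCategory.homologyFunctor (ModuleCat.{u} A) (ComplexShape.up ℤ) m
  let F' := HomotopyCategory.homologyFunctor (ModuleCat.{u} A) (ComplexShape.up ℤ) (m + 1)
  have e' : Q.obj (mappingCone φ) ≅ Q.obj K ⊞ (Q.obj K)⟦(1 : ℤ)⟧ := e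
  haveI : F.Additive := by dsimp only [F]; infer_instance
  haveI : PreservesBinaryBiproducts F := preservesBinaryBiproducts_of_preservesBiproducts F
  let iso1 : (mappingCone φ).homology m ≅ F.obj (Q.obj (mappingCone φ)) :=
    ((HomotopyCategory.homologyFunctorFactors (ModuleCat.{u} A) (ComplexShape.up ℤ) m).app
      (mappingCone φ)).symm
  let iso2 : F.obj (Q.obj (mappingCone φ)) ≅ F.obj (Q.obj K ⊞ (Q.obj K)⟦(1 : ℤ)⟧) := F.mapIso e'
  let iso3 : F.obj (Q.obj K ⊞ (Q.obj K)⟦(1 : ℤ)⟧) ≅ F.obj (Q.obj K) ⊞ F.obj ((Q.obj K)⟦(1 : ℤ)⟧) :=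
    F.mapBiprod _ _
  let iso4 : F.obj (Q.obj K) ≅ K.homology m :=
    (HomotopyCategory.homologyFunctorFactors (ModuleCat.{u} A) (ComplexShape.up ℤ) m).app K
  let iso5 : F.obj ((Q.obj K)⟦(1 : ℤ)⟧) ≅ F'.obj (Q.obj K) :=
    ((HomotopyCategory.homologyFunctor (ModuleCat.{u} A) (ComplexShape.up ℤ) 0).shiftIso 1 m (m + 1)
      (by ring)).app (Q.obj K)
  let iso6 : F'.obj (Q.obj K) ≅ K.homology (m + 1) :=
    (HomotopyCategory.homologyFunctorFactors (ModuleCat.{u} A) (ComplexShape.up ℤ) (m + 1)).app K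
  let iso7 : F.obj (Q.obj K) ⊞ F.obj ((Q.obj K)⟦(1 : ℤ)⟧) ≅ K.homology m ⊞ K.homology (m + 1) :=
    biprod.mapIso iso4 (iso5 ≪≫ iso6)
  let iso8 := ModuleCat.biprodIsoProd (K.homology m) (K.homology (m + 1))
  exact ⟨(iso1 ≪≫ iso2 ≪≫ iso3 ≪≫ iso7 ≪≫ iso8).toLinearEquiv⟩

end Groth.Agent.Lib.Helper6.KosHom
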