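import Mathlib
import Groth.Prelude.Def_ega3
import Groth.Prelude.Def_Koszul
import Groth.Prelude.Def_DRing2
import Groth.Agent.Lib.Helper8.KE1
import Groth.Agent.Lib.Helper8.KP2
import Groth.Agent.Lib.Helper8.Koszul4
import Groth.Agent.Lib.Helper6.KosHom.KHa
import Groth.Agent.Lib.Helper6.KosHom.KHb

/-!
# Koszul homology of a concatenated sequence `x, y` with `y ⊆ (x)` (S15822)
-/

set_option autoImplicit false
set_option linter.unusedSectionVars false
set_option linter.unusedVariables false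
set_option linter.unusedSimpArgs false
set_option linter.style.haveILetI false
set_option maxHeartbeats 400000

namespace Groth.Agent.Lib.Helper6.KosHom

open CategoryTheory CategoryTheory.Limits CochainComplex CohIII
open Groth.Agent.Helper8.KoszulLib

universe u

variable {A : Type u} [CommRing A]

theorem nonempty_homology_congr (K : CochainComplex (ModuleCat.{u} A) ℤ) {a b : ℤ} (h : a = b) :
    Nonempty (K.homology a ≃ₗ[A] K.homology b) := by
  subst h
  exact ⟨LinearEquiv.refl A _⟩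

theorem main_ind (M : ModuleCat.{u} A) (xs : List A) : ∀ (ys : List A),
    (∀ y ∈ ys, y ∈ Ideal.span {a | a ∈ xs}) → ∀ (m : ℤ) (G : ℕ → ModuleCat.{u} A),
      (∀ j : ℕ, Nonempty (G j ≃ₗ[A] (koszulCx M xs).homology (m + (j : ℤ)))) →
      Nonempty ((koszulCx M (ys ++ xs)).homology m ≃ₗ[A] Trec ys.length G)
  | [], _, m, G, hG => by
    obtain ⟨e1⟩ := hG 0
    obtain ⟨e2⟩ := nonempty_homology_congr (koszulCx M xs) (show m + ((0 : ℕ) : ℤ) = m by simp)
    exact ⟨(e1.trans e2).symm⟩
  | y :: ys, hy, m, G, hG => by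
    have hy' : ∀ z ∈ ys, z ∈ Ideal.span {a | a ∈ xs} :=
      fun z hz => hy z (List.mem_cons_of_mem _ hz)
    have hyx : y ∈ Ideal.span {a | a ∈ ys ++ xs} := by
      have h1 := hy y List.mem_cons_self
      refine Ideal.span_mono ?_ h1
      intro a ha
      exact List.mem_append_right _ ha
    obtain ⟨H⟩ := nonempty_homotopy_smul_id M (ys ++ xs) y hyx
    obtain ⟨e1⟩ := nonempty_homology_cone_of_homotopy (y • 𝟙 (koszulCx M (ys ++ xs))) H m
    obtain ⟨e2⟩ := main_ind M xs ys hy' m G hG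
    have hG' : ∀ j : ℕ, Nonempty (G (j + 1) ≃ₗ[A]
        (koszulCx M xs).homology (m + 1 + (j : ℤ))) := by
      intro j
      obtain ⟨f1⟩ := hG (j + 1)
      obtain ⟨f2⟩ := nonempty_homology_congr (koszulCx M xs)
        (show m + ((j + 1 : ℕ) : ℤ) = m + 1 + (j : ℤ) by push_cast; ring)
      exact ⟨f1.trans f2⟩
    obtain ⟨e3⟩ := main_ind M xs ys hy' (m + 1) (fun j => G (j + 1)) hG'
    exact ⟨e1.trans (LinearEquiv.prodCongr e2 e3)⟩

theorem main (M : ModuleCat.{u} A) (xs ys : List A)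
    (hy : ∀ y ∈ ys, y ∈ Ideal.span {a | a ∈ xs}) (m : ℤ) :
    Nonempty ((DRing.tensorCx (Koszul.koszul A (xs ++ ys)) M).homology m ≅
      ModuleCat.of A ((j : Fin (ys.length + 1)) → Fin (ys.length.choose j) →
        (DRing.tensorCx (Koszul.koszul A xs) M).homology (m + j))) := by
  obtain ⟨e1⟩ := nonempty_tensor_homology_equiv M (xs ++ ys) m
  obtain ⟨e2⟩ := nonempty_homology_equiv_of_perm M (List.perm_append_comm (l₁ := xs) (l₂ := ys)) m
  let G : ℕ → ModuleCat.{u} A :=
    fun j => (DRing.tensorCx (Koszul.koszul A xs) M).homology (m + (j : ℤ))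
  have hG : ∀ j : ℕ, Nonempty (G j ≃ₗ[A] (koszulCx M xs).homology (m + (j : ℤ))) :=
    fun j => nonempty_tensor_homology_equiv M xs (m + (j : ℤ))
  obtain ⟨e3⟩ := main_ind M xs ys hy m G hG
  obtain ⟨e4⟩ := nonempty_Trec_equiv_P ys.length G
  exact ⟨(((e1.trans e2).trans e3).trans e4).toModuleIso⟩

end Groth.Agent.Lib.Helper6.KosHom
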